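import Mathlib
import Groth.Agent.H56.ColimFlatAt.Bridge
import Groth.Agent.H71.FlatOver.Alg

/-!
# Flatness along a jointly injective family of local homomorphisms: basic lemmas (helper56)

* `MinIndep R w`: the family `w` is "independent modulo the maximal ideal".
* `linearIndependent_mk_of_minIndep`: such a family has linearly independent image in `k ⊗ L`.
* `exists_smul_mem_of_mk_mem`: membership in `I • ⊤` of a localized module.
* `plusSubmonoid J T₀`, the submonoid `T₀ + J`, and `flat_localizedModule_plusSubmonoid`.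
-/

set_option autoImplicit false
set_option linter.style.haveILetI false

open TensorProduct IsLocalRing

namespace Groth.Agent.H56.FamFlat

universe u v

section MinIndep

variable (R : Type*) [CommRing R] [IsLocalRing R] {L : Type*} [AddCommGroup L] [Module R L]
  {Λ : Type*}

/-- independence modulo the maximal ideal -/
def MinIndep (w : Λ → L) : Prop :=
  ∀ (s : Finset Λ) (c : Λ → R), ∑ i ∈ s, c i • w i ∈ maximalIdeal R • (⊤ : Submodule R L) →
    ∀ i ∈ s, c i ∈ maximalIdeal R

variable {R}

theorem linearIndependent_mk_of_minIndep {w : Λ → L} (h : MinIndep R w) :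
    LinearIndependent (ResidueField R) (TensorProduct.mk R (ResidueField R) L 1 ∘ w) := by
  classical
  rw [linearIndependent_iff']
  intro s g hg i hi
  choose c hc using fun i => residue_surjective (g i)
  have key : ∑ i ∈ s, g i • (TensorProduct.mk R (ResidueField R) L 1 ∘ w) i =
      TensorProduct.mk R (ResidueField R) L 1 (∑ i ∈ s, c i • w i) := by
    rw [map_sum]
    refine Finset.sum_congr rfl fun i _ => ?_
    rw [map_smul, Function.comp_apply, ← hc i]
    change residue R (c i) • ((1 : ResidueField R) ⊗ₜ[R] w i) =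
      c i • ((1 : ResidueField R) ⊗ₜ[R] w i)
    rw [TensorProduct.smul_tmul', TensorProduct.smul_tmul', smul_eq_mul, mul_one,
      Algebra.smul_def, mul_one]
    rfl
  rw [key] at hg
  have hmem : ∑ i ∈ s, c i • w i ∈ maximalIdeal R • (⊤ : Submodule R L) := by
    rw [← LinearMap.ker_tensorProductMk]
    exact hg
  rw [← hc i]
  exact (residue_eq_zero_iff _).mpr (h s c hmem i hi)

end MinIndep


section LocMem

variable {A' B' : Type u} [CommRing A'] [CommRing B'] [Algebra A' B']
  {M' : Type u} [AddCommGroup M'] [Module B' M'] [Module A' M'] [IsScalarTower A' B' M']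

/-- `I • ⊤` is stable under the bigger ring -/
theorem smul_mem_smul_top (I : Ideal A') (b : B') {y : M'}
    (hy : y ∈ I • (⊤ : Submodule A' M')) : b • y ∈ I • (⊤ : Submodule A' M') := by
  refine Submodule.smul_induction_on hy ?_ ?_
  · intro a ha m _
    rw [smul_comm]
    exact Submodule.smul_mem_smul ha Submodule.mem_top
  · intro x y hx hy
    rw [smul_add]
    exact Submodule.add_mem _ hx hy

/-- elements of the extended ideal multiply into `I • ⊤` -/
theorem map_smul_mem_smul_top (I : Ideal A') {j : B'} (hj : j ∈ I.map (algebraMap A' B'))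
    (y : M') : j • y ∈ I • (⊤ : Submodule A' M') := by
  induction hj using Submodule.span_induction generalizing y with
  | mem j hj =>
    obtain ⟨a, ha, rfl⟩ := hj
    rw [algebraMap_smul]
    exact Submodule.smul_mem_smul ha Submodule.mem_top
  | zero => rw [zero_smul]; exact Submodule.zero_mem _
  | add j₁ j₂ _ _ h₁ h₂ => rw [add_smul]; exact Submodule.add_mem _ (h₁ y) (h₂ y)
  | smul b j _ h => rw [smul_eq_mul, mul_comm, mul_smul]; exact h (b • y)

/-- membership in `I • ⊤` of a localized module -/
theorem exists_smul_mem_of_mk_mem (T : Submonoid B') (I : Ideal A') {x : M'}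
    (hx : LocalizedModule.mk x (1 : T) ∈ I • (⊤ : Submodule A' (LocalizedModule T M'))) :
    ∃ t ∈ T, t • x ∈ I • (⊤ : Submodule A' M') := by
  have key : ∀ l ∈ I • (⊤ : Submodule A' (LocalizedModule T M')),
      ∃ y ∈ I • (⊤ : Submodule A' M'), ∃ t : T, l = LocalizedModule.mk y t := by
    intro l hl
    refine Submodule.smul_induction_on hl ?_ ?_
    · intro a ha l _
      induction l using LocalizedModule.induction_on with
      | h m t =>
        refine ⟨a • m, Submodule.smul_mem_smul ha Submodule.mem_top, t, ?_⟩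
        rw [LocalizedModule.smul'_mk]
    · rintro l₁ l₂ ⟨y₁, hy₁, t₁, rfl⟩ ⟨y₂, hy₂, t₂, rfl⟩
      refine ⟨t₂ • y₁ + t₁ • y₂, Submodule.add_mem _ (smul_mem_smul_top I (t₂ : B') hy₁)
        (smul_mem_smul_top I (t₁ : B') hy₂), t₁ * t₂, ?_⟩
      rw [LocalizedModule.mk_add_mk]
  obtain ⟨y, hy, t, hyt⟩ := key _ hx
  rw [LocalizedModule.mk_eq] at hyt
  obtain ⟨s, hs⟩ := hyt
  refine ⟨s * t, T.mul_mem s.2 t.2, ?_⟩
  have h1 : ((s : B') * (t : B')) • x = (s : B') • y := by
    have := hs
    rw [one_smul] at this
    rw [mul_smul]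
    exact this
  rw [h1]
  exact smul_mem_smul_top I (s : B') hy

end LocMem

section Plus

variable {A' B' : Type u} [CommRing A'] [CommRing B'] [Algebra A' B']
  {M' : Type u} [AddCommGroup M'] [Module B' M'] [Module A' M'] [IsScalarTower A' B' M']

/-- the submonoid `T₀ + J` -/
def plusSubmonoid (J : Ideal B') (T₀ : Submonoid B') : Submonoid B' :=
  (T₀.map (Ideal.Quotient.mk J)).comap (Ideal.Quotient.mk J)

theorem mem_plusSubmonoid {J : Ideal B'} {T₀ : Submonoid B'} {t : B'} :
    t ∈ plusSubmonoid J T₀ ↔ ∃ b ∈ T₀, t - b ∈ J := by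
  unfold plusSubmonoid
  rw [Submonoid.mem_comap, Submonoid.mem_map]
  constructor
  · rintro ⟨b, hb, h⟩
    refine ⟨b, hb, ?_⟩
    rw [← Ideal.Quotient.eq]
    exact h.symm
  · rintro ⟨b, hb, h⟩
    refine ⟨b, hb, ?_⟩
    rw [← Ideal.Quotient.eq] at h
    exact h.symm

theorem le_plusSubmonoid (J : Ideal B') (T₀ : Submonoid B') : T₀ ≤ plusSubmonoid J T₀ :=
  fun t ht => mem_plusSubmonoid.mpr ⟨t, ht, by rw [sub_self]; exact J.zero_mem⟩

theorem add_mem_plusSubmonoid {J : Ideal B'} {T₀ : Submonoid B'} {t j : B'}
    (ht : t ∈ plusSubmonoid J T₀) (hj : j ∈ J) : t + j ∈ plusSubmonoid J T₀ := by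
  obtain ⟨b, hb, h⟩ := mem_plusSubmonoid.mp ht
  refine mem_plusSubmonoid.mpr ⟨b, hb, ?_⟩
  have : t + j - b = (t - b) + j := by ring
  rw [this]
  exact J.add_mem h hj

/-- flatness of the localization at `T₀ + J` can be checked at the primes containing `J` and
missing `T₀` -/
theorem flat_localizedModule_plusSubmonoid (J : Ideal B') (T₀ : Submonoid B')
    (H : ∀ (Q : Ideal B') [Q.IsPrime], J ≤ Q → (∀ t ∈ T₀, t ∉ Q) →
      Module.Flat A' (LocalizedModule Q.primeCompl M')) :
    Module.Flat A' (LocalizedModule (plusSubmonoid J T₀) M') := by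
  set T := plusSubmonoid J T₀ with hT
  apply Groth.Agent.H71.FlatOver.flat_of_localized_maximal (R := A') (B := Localization T)
  intro P hP
  have h1 : ∀ t ∈ T, IsUnit (algebraMap B' (Localization T) t) :=
    fun t ht => IsLocalization.map_units (Localization T) ⟨t, ht⟩
  have h2 : ∀ s : Localization T, ∃ p : B', ∃ t ∈ T,
      s * algebraMap B' (Localization T) t = algebraMap B' (Localization T) p := by
    intro s
    obtain ⟨⟨p, t⟩, hpt⟩ := IsLocalization.surj T s
    exact ⟨p, t, t.2, hpt⟩
  rw [Groth.Agent.H56.ColimFlatAt.flat_localizedModule_iff_of_isLocalizedModule (C := A') T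
    (LocalizedModule.mkLinearMap T M') h1 h2 P]
  have hnotT : ∀ t ∈ T, t ∉ P.comap (algebraMap B' (Localization T)) := fun t ht hmem =>
    (Ideal.IsPrime.ne_top inferInstance) (Ideal.eq_top_of_isUnit_mem P hmem (h1 t ht))
  apply H
  · intro j hj
    by_contra hjP
    have hjP' : algebraMap B' (Localization T) j ∉ P := hjP
    obtain ⟨x, i, hi, hxi⟩ := hP.exists_inv hjP'
    obtain ⟨p, t, ht, hpt⟩ := h2 x
    -- `(1 - j x) t = t - j p`
    have hmem : algebraMap B' (Localization T) (t + (-(j * p))) ∈ P := by
      have h3 : algebraMap B' (Localization T) (t + (-(j * p))) =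
          i * algebraMap B' (Localization T) t := by
        rw [map_add, map_neg, map_mul, ← hpt]
        have : i = 1 - x * algebraMap B' (Localization T) j := by rw [← hxi]; ring
        rw [this]
        ring
      rw [h3]
      exact P.mul_mem_right _ hi
    exact hnotT _ (add_mem_plusSubmonoid ht (J.neg_mem (J.mul_mem_right _ hj))) hmem
  · intro t ht
    exact hnotT t (le_plusSubmonoid J T₀ ht)

end Plus

end Groth.Agent.H56.FamFlat
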