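import Mathlib

/-!
# The coordinate maps `Θ_β : M' → M_q ⊗ K` (helper56)

`M' = A' ⊗_A M` (as an `IsBaseChange`), `M` a `B`-module.  Every `A`-linear map `β : A' → K`
induces an `A`-linear, `B`-equivariant map `M' → M_q ⊗_A K`.
-/

set_option autoImplicit false
set_option linter.style.haveILetI false

open TensorProduct IsLocalRing

namespace Groth.Agent.H56.FamFlat

universe u

variable {A B A' : Type u} [CommRing A] [CommRing B] [CommRing A']
  [Algebra A B] [Algebra A A']
  {M M' : Type u} [AddCommGroup M] [Module B M] [Module A M] [IsScalarTower A B M]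
  [AddCommGroup M'] [Module A' M'] [Module B M'] [Module A M'] [IsScalarTower A A' M']
  [IsScalarTower A B M'] [SMulCommClass B A' M']
  (f : M →ₗ[B] M') (hA : IsBaseChange A' (f.restrictScalars A)) (q : Ideal B) [q.IsPrime]
  {K : Type u} [AddCommGroup K] [Module A K]

include hA in
/-- induction principle for the base change `M'` -/
theorem induction_baseChange {motive : M' → Prop} (y : M') (zero : motive 0)
    (smul : ∀ (a' : A') (m : M), motive (a' • f m))
    (add : ∀ y₁ y₂, motive y₁ → motive y₂ → motive (y₁ + y₂)) : motive y := by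
  obtain ⟨z, rfl⟩ := hA.equiv.surjective y
  induction z with
  | zero => rw [map_zero]; exact zero
  | tmul a' m => rw [hA.equiv_tmul]; exact smul a' m
  | add z₁ z₂ h₁ h₂ => rw [map_add]; exact add _ _ h₁ h₂

/-- the coordinate map attached to a functional -/
noncomputable def theta (β : A' →ₗ[A] K) : M' →ₗ[A] (LocalizedModule q.primeCompl M) ⊗[A] K :=
  (TensorProduct.map ((LocalizedModule.mkLinearMap q.primeCompl M).restrictScalars A) β) ∘ₗ
    (TensorProduct.comm A A' M).toLinearMap ∘ₗ
    (hA.equiv.symm.restrictScalars A).toLinearMap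

theorem theta_smul (β : A' →ₗ[A] K) (a' : A') (m : M) :
    theta f hA q β (a' • f m) = LocalizedModule.mk m (1 : q.primeCompl) ⊗ₜ[A] β a' := by
  have h1 : hA.equiv.symm (a' • f m) = a' ⊗ₜ[A] m := by
    rw [LinearEquiv.symm_apply_eq, hA.equiv_tmul]
    rfl
  unfold theta
  simp only [LinearMap.comp_apply, LinearEquiv.coe_toLinearMap, LinearEquiv.restrictScalars_apply]
  rw [h1, TensorProduct.comm_tmul, TensorProduct.map_tmul]
  rfl

theorem theta_smul_left (β : A' →ₗ[A] K) (b : B) (y : M') :
    theta f hA q β (b • y) = b • theta f hA q β y := by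
  refine induction_baseChange f hA (motive := fun y => theta f hA q β (b • y) =
    b • theta f hA q β y) y ?_ ?_ ?_
  · rw [smul_zero, map_zero, smul_zero]
  · intro a' m
    have h1 : b • a' • f m = a' • f (b • m) := by
      rw [smul_comm, map_smul]
    rw [h1, theta_smul, theta_smul, TensorProduct.smul_tmul', LocalizedModule.smul'_mk]
  · intro y₁ y₂ h₁ h₂
    rw [smul_add, map_add, map_add, smul_add, h₁, h₂]

theorem theta_eq_zero_of_mem (β : A' →ₗ[A] K) (I : Ideal A')
    (hβ : ∀ a ∈ I, β a = 0) {y : M'} (hy : y ∈ I • (⊤ : Submodule A' M')) :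
    theta f hA q β y = 0 := by
  refine Submodule.smul_induction_on hy ?_ ?_
  · intro a ha z _
    refine induction_baseChange f hA (motive := fun z => theta f hA q β (a • z) = 0) z ?_ ?_ ?_
    · rw [smul_zero, map_zero]
    · intro a' m
      rw [← mul_smul, theta_smul, hβ _ (I.mul_mem_right _ ha), TensorProduct.tmul_zero]
    · intro y₁ y₂ h₁ h₂
      rw [smul_add, map_add, h₁, h₂, add_zero]
  · intro x y hx hy
    rw [map_add, hx, hy, add_zero]

section Pow

variable {B' : Type u} [CommRing B'] [Algebra B B'] [Module B' M'] [IsScalarTower B B' M']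

/-- `Θ_β` maps `q^n M'` into `𝔮^n (M_q ⊗ K)` -/
theorem theta_mem_of_mem_map_pow (β : A' →ₗ[A] K) (n : ℕ) {j : B'}
    (hj : j ∈ (q ^ n).map (algebraMap B B')) (y : M') :
    theta f hA q β (j • y) ∈
      (maximalIdeal (Localization q.primeCompl)) ^ n •
        (⊤ : Submodule (Localization q.primeCompl) ((LocalizedModule q.primeCompl M) ⊗[A] K)) := by
  induction hj using Submodule.span_induction generalizing y with
  | mem j hj =>
    obtain ⟨r, hr, rfl⟩ := hj
    rw [algebraMap_smul, theta_smul_left, ← algebraMap_smul (Localization q.primeCompl) r]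
    refine Submodule.smul_mem_smul ?_ Submodule.mem_top
    have h1 : maximalIdeal (Localization q.primeCompl) = q.map (algebraMap B _) :=
      (Localization.AtPrime.map_eq_maximalIdeal (I := q)).symm
    rw [h1, ← Ideal.map_pow]
    exact Ideal.mem_map_of_mem _ hr
  | zero => rw [zero_smul, map_zero]; exact Submodule.zero_mem _
  | add j₁ j₂ _ _ h₁ h₂ => rw [add_smul, map_add]; exact Submodule.add_mem _ (h₁ y) (h₂ y)
  | smul b j _ h => rw [smul_eq_mul, mul_comm, mul_smul]; exact h (b • y)

end Pow

end Groth.Agent.H56.FamFlat
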