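import Mathlib
import Groth.Agent.H56.FamFlat.Basic
import Groth.Agent.H56.FamFlat.Theta

/-!
# Transfer of independence modulo the maximal ideal (helper56)
-/

set_option autoImplicit false
set_option linter.style.haveILetI false

open TensorProduct IsLocalRing

namespace Groth.Agent.H56.FamFlat

universe u

variable {A B A' B' : Type u} [CommRing A] [CommRing B] [CommRing A'] [CommRing B']
  [IsLocalRing A] [IsLocalRing A'] [Algebra A B] [Algebra A A'] [IsLocalHom (algebraMap A A')]
  [Algebra B B'] [Algebra A' B']
  {M M' : Type u} [AddCommGroup M] [Module B M] [Module A M] [IsScalarTower A B M]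
  [AddCommGroup M'] [Module B' M'] [Module A' M'] [IsScalarTower A' B' M'] [Module B M']
  [IsScalarTower B B' M'] [Module A M'] [IsScalarTower A A' M'] [IsScalarTower A B M']

variable (A' B') in
/-- the ideal generated by `q` and `𝔪'` -/
def Jideal (q : Ideal B) : Ideal B' :=
  q.map (algebraMap B B') ⊔ (maximalIdeal A').map (algebraMap A' B')

variable (A' B') in
/-- the submonoid `(B ∖ q) + J` -/
def Tsub (q : Ideal B) [q.IsPrime] : Submonoid B' :=
  plusSubmonoid (Jideal A' B' q) (q.primeCompl.map (algebraMap B B'))

variable (A') in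
theorem isUnit_algebraMap_end (q : Ideal B) [q.IsPrime] (x : q.primeCompl) :
    IsUnit (algebraMap B (Module.End B (LocalizedModule (Tsub A' B' q) M')) (x : B)) := by
  have hx : algebraMap B B' (x : B) ∈ Tsub A' B' q :=
    le_plusSubmonoid _ _ (Submonoid.mem_map_of_mem _ x.2)
  have hu := IsLocalizedModule.map_units (LocalizedModule.mkLinearMap (Tsub A' B' q) M')
    ⟨_, hx⟩
  rw [Module.End.isUnit_iff] at hu ⊢
  have : ⇑(algebraMap B (Module.End B (LocalizedModule (Tsub A' B' q) M')) (x : B)) =
      ⇑(algebraMap B' (Module.End B' (LocalizedModule (Tsub A' B' q) M'))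
        (algebraMap B B' (x : B))) := by
    funext y
    simp only [Module.algebraMap_end_apply]
    exact (algebraMap_smul B' (x : B) y).symm
  rw [this]
  exact hu

variable (A' B') in
/-- the comparison map `M_q → T⁻¹ M'` -/
noncomputable def gmap (f : M →ₗ[B] M') (q : Ideal B) [q.IsPrime] :
    LocalizedModule q.primeCompl M →ₗ[B] LocalizedModule (Tsub A' B' q) M' :=
  IsLocalizedModule.lift q.primeCompl (LocalizedModule.mkLinearMap q.primeCompl M)
    (((LocalizedModule.mkLinearMap (Tsub A' B' q) M').restrictScalars B) ∘ₗ f)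
    (isUnit_algebraMap_end A' q)

theorem gmap_mk (f : M →ₗ[B] M') (q : Ideal B) [q.IsPrime] (m : M) :
    gmap A' B' f q (LocalizedModule.mk m (1 : q.primeCompl)) =
      LocalizedModule.mk (f m) (1 : Tsub A' B' q) :=
  IsLocalizedModule.lift_apply q.primeCompl (LocalizedModule.mkLinearMap q.primeCompl M)
    (((LocalizedModule.mkLinearMap (Tsub A' B' q) M').restrictScalars B) ∘ₗ f)
    (isUnit_algebraMap_end A' q) m


section Fin

/-- finiteness of `N ⊗ k` over a ring acting on `N` -/
theorem finite_tensor_residue {R C N : Type*} [CommRing R] [IsLocalRing R] [CommRing C]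
    [Algebra R C] [AddCommGroup N] [Module R N] [Module C N] [IsScalarTower R C N]
    [Module.Finite C N] : Module.Finite C (N ⊗[R] ResidueField R) := by
  let g : N →ₗ[C] N ⊗[R] ResidueField R :=
    { toFun := fun n => n ⊗ₜ 1
      map_add' := fun a b => TensorProduct.add_tmul a b 1
      map_smul' := fun c n => by
        rw [RingHom.id_apply, TensorProduct.smul_tmul'] }
  refine Module.Finite.of_surjective g ?_
  intro z
  induction z with
  | zero => exact ⟨0, map_zero g⟩
  | tmul n x =>
    obtain ⟨a, rfl⟩ := residue_surjective x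
    refine ⟨a • n, ?_⟩
    change (a • n) ⊗ₜ[R] (1 : ResidueField R) = n ⊗ₜ[R] residue R a
    rw [TensorProduct.smul_tmul]
    congr 1
    rw [Algebra.smul_def, mul_one]
    rfl
  | add z₁ z₂ h₁ h₂ =>
    obtain ⟨n₁, h₁⟩ := h₁
    obtain ⟨n₂, h₂⟩ := h₂
    exact ⟨n₁ + n₂, by rw [map_add, h₁, h₂]⟩

end Fin

section Heart

variable [IsNoetherianRing B] [Module.Finite B M]
  (f : M →ₗ[B] M') (hA : IsBaseChange A' (f.restrictScalars A)) (q : Ideal B) [q.IsPrime]

include hA in
set_option maxHeartbeats 1600000 in
/-- **transfer of independence modulo the maximal ideal** from `M_q` to `T⁻¹ M'` -/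
theorem minIndep_gmap {Λ : Type*} (v : Λ → LocalizedModule q.primeCompl M) (hv : MinIndep A v) :
    MinIndep A' (fun i => gmap A' B' f q (v i)) := by
  classical
  haveI : SMulCommClass B A' M' := ⟨fun b a' y => by
    rw [← algebraMap_smul B' b (a' • y), ← algebraMap_smul B' a' y, ← algebraMap_smul B' b y,
      ← algebraMap_smul B' a' (algebraMap B B' b • y), smul_smul, smul_smul, mul_comm]⟩
  intro s c hc
  -- common denominators
  obtain ⟨t, ht⟩ := IsLocalizedModule.exist_integer_multiples q.primeCompl
    (LocalizedModule.mkLinearMap q.primeCompl M) s v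
  have ht' : ∀ i ∈ s, ∃ y : M, LocalizedModule.mk y (1 : q.primeCompl) = (t : B) • v i :=
    fun i hi => ht i hi
  choose! m hm using ht'
  set w : M' := ∑ i ∈ s, c i • f (m i) with hw_def
  -- `w / 1 ∈ 𝔪' T⁻¹M'`
  have hw : LocalizedModule.mk w (1 : Tsub A' B' q) ∈
      maximalIdeal A' • (⊤ : Submodule A' (LocalizedModule (Tsub A' B' q) M')) := by
    have h1 : LocalizedModule.mk w (1 : Tsub A' B' q) =
        algebraMap B B' (t : B) • ∑ i ∈ s, c i • gmap A' B' f q (v i) := by
      have h2 : LocalizedModule.mk w (1 : Tsub A' B' q) =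
          ((LocalizedModule.mkLinearMap (Tsub A' B' q) M').restrictScalars A') w := rfl
      rw [h2, hw_def, map_sum, Finset.smul_sum]
      refine Finset.sum_congr rfl fun i hi => ?_
      rw [map_smul, smul_comm]
      congr 1
      rw [algebraMap_smul, ← map_smul, ← hm i hi, gmap_mk]
      rfl
    rw [h1]
    exact smul_mem_smul_top _ _ hc
  obtain ⟨t', ht', htw⟩ := exists_smul_mem_of_mk_mem (Tsub A' B' q) (maximalIdeal A') hw
  obtain ⟨b', hb', hbJ⟩ := mem_plusSubmonoid.mp ht'
  obtain ⟨b, hb, rfl⟩ := Submonoid.mem_map.mp hb'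
  obtain ⟨j₁, hj₁, j₂, hj₂, hj⟩ := Submodule.mem_sup.mp hbJ
  have h1 : (algebraMap B B' b + j₁) • w ∈ maximalIdeal A' • (⊤ : Submodule A' M') := by
    have h2 : (algebraMap B B' b + j₁) • w = t' • w - j₂ • w := by
      have : t' = algebraMap B B' b + j₁ + j₂ := by rw [add_assoc, hj]; ring
      rw [this, add_smul (algebraMap B B' b + j₁) j₂, add_sub_cancel_right]
    rw [h2]
    exact Submodule.sub_mem _ htw (map_smul_mem_smul_top _ hj₂ w)
  have iter : ∀ n : ℕ, (algebraMap B B' b) ^ n • w - (-j₁) ^ n • w ∈
      maximalIdeal A' • (⊤ : Submodule A' M') := by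
    intro n
    induction n with
    | zero => rw [pow_zero, pow_zero, sub_self]; exact Submodule.zero_mem _
    | succ n ih =>
      have h2 : (algebraMap B B' b) ^ (n + 1) • w - (-j₁) ^ (n + 1) • w =
          algebraMap B B' b • ((algebraMap B B' b) ^ n • w - (-j₁) ^ n • w) +
            (-j₁) ^ n • ((algebraMap B B' b + j₁) • w) := by
        rw [smul_sub, smul_smul, smul_smul, smul_smul, pow_succ, pow_succ, mul_add, add_smul,
          mul_comm (algebraMap B B' b) ((algebraMap B B' b) ^ n)]
        rw [mul_neg, neg_smul, sub_neg_eq_add, mul_comm (algebraMap B B' b) ((-j₁) ^ n)]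
        abel
      rw [h2]
      exact Submodule.add_mem _ (smul_mem_smul_top _ _ ih) (smul_mem_smul_top _ _ h1)
  -- the local ring `C = B_q`
  have hbu : IsUnit (algebraMap B (Localization q.primeCompl) b) :=
    IsLocalization.map_units (Localization q.primeCompl) ⟨b, hb⟩
  have htu : IsUnit (algebraMap B (Localization q.primeCompl) (t : B)) :=
    IsLocalization.map_units (Localization q.primeCompl) t
  haveI : IsNoetherianRing (Localization q.primeCompl) :=
    IsLocalization.isNoetherianRing q.primeCompl _ inferInstance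
  haveI : Module.Finite (Localization q.primeCompl)
      ((LocalizedModule q.primeCompl M) ⊗[A] ResidueField A) := finite_tensor_residue
  -- the functionals
  have key : ∀ β : Module.Dual (ResidueField A) (ResidueField A'), ∀ i ∈ s,
      β (residue A' (c i)) = 0 := by
    intro β
    let βA : A' →ₗ[A] ResidueField A :=
      (β.restrictScalars A) ∘ₗ (IsScalarTower.toAlgHom A A' (ResidueField A')).toLinearMap
    have hβA : ∀ a, βA a = β (residue A' a) := fun a => rfl
    have hβ0 : ∀ a ∈ maximalIdeal A', βA a = 0 := by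
      intro a ha
      rw [hβA, (residue_eq_zero_iff a).mpr ha, map_zero]
    set z := theta f hA q βA w with hz_def
    have hz_formula : z = ∑ i ∈ s,
        (LocalizedModule.mk (m i) (1 : q.primeCompl)) ⊗ₜ[A] βA (c i) := by
      rw [hz_def, hw_def, map_sum]
      exact Finset.sum_congr rfl fun i _ => theta_smul f hA q βA (c i) (m i)
    have hzn : ∀ n : ℕ, (algebraMap B (Localization q.primeCompl) b) ^ n • z ∈
        (maximalIdeal (Localization q.primeCompl)) ^ n •
          (⊤ : Submodule (Localization q.primeCompl)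
            ((LocalizedModule q.primeCompl M) ⊗[A] ResidueField A)) := by
      intro n
      have e1 : (algebraMap B (Localization q.primeCompl) b) ^ n • z =
          theta f hA q βA ((algebraMap B B' b) ^ n • w) := by
        rw [← map_pow, ← map_pow, algebraMap_smul, algebraMap_smul, theta_smul_left]
      have e2 : (algebraMap B B' b) ^ n • w =
          (-j₁) ^ n • w + ((algebraMap B B' b) ^ n • w - (-j₁) ^ n • w) := by abel
      rw [e1, e2, map_add, theta_eq_zero_of_mem f hA q βA (maximalIdeal A') hβ0 (iter n),
        add_zero]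
      refine theta_mem_of_mem_map_pow f hA q βA n ?_ w
      rw [Ideal.map_pow]
      exact Ideal.pow_mem_pow (Ideal.neg_mem_iff _ |>.mpr hj₁) n
    have hz0 : z = 0 := by
      have hmem : z ∈ (⨅ n : ℕ, (maximalIdeal (Localization q.primeCompl)) ^ n •
          (⊤ : Submodule (Localization q.primeCompl)
            ((LocalizedModule q.primeCompl M) ⊗[A] ResidueField A))) := by
        rw [Submodule.mem_iInf]
        intro n
        obtain ⟨u, hu⟩ := hbu
        have h3 : z = ((u⁻¹ : (Localization q.primeCompl)ˣ) : Localization q.primeCompl) ^ n •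
            ((algebraMap B (Localization q.primeCompl) b) ^ n • z) := by
          rw [smul_smul, ← hu, ← mul_pow, Units.inv_mul, one_pow, one_smul]
        rw [h3]
        exact Submodule.smul_mem _ _ (hzn n)
      rw [Ideal.iInf_pow_smul_eq_bot_of_isLocalRing _
        (Ideal.IsMaximal.ne_top (maximalIdeal.isMaximal _))] at hmem
      exact (Submodule.mem_bot _).mp hmem
    -- remove the denominators
    have hS : ∑ i ∈ s, (v i) ⊗ₜ[A] βA (c i) = 0 := by
      have h3 : algebraMap B (Localization q.primeCompl) (t : B) •
          ∑ i ∈ s, (v i) ⊗ₜ[A] βA (c i) = 0 := by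
        rw [← hz0, hz_formula, Finset.smul_sum]
        refine Finset.sum_congr rfl fun i hi => ?_
        rw [hm i hi, algebraMap_smul, TensorProduct.smul_tmul']
      exact (htu.smul_eq_zero).mp h3
    choose d hd using fun i => residue_surjective (βA (c i))
    have hS' : TensorProduct.mk A (ResidueField A) (LocalizedModule q.primeCompl M) 1
        (∑ i ∈ s, d i • v i) = 0 := by
      have h4 : TensorProduct.mk A (ResidueField A) (LocalizedModule q.primeCompl M) 1
          (∑ i ∈ s, d i • v i) = TensorProduct.comm A _ _ (∑ i ∈ s, (v i) ⊗ₜ[A] βA (c i)) := by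
        rw [map_sum, map_sum]
        refine Finset.sum_congr rfl fun i _ => ?_
        rw [TensorProduct.comm_tmul, ← hd i, map_smul]
        change d i • ((1 : ResidueField A) ⊗ₜ[A] v i) = residue A (d i) ⊗ₜ[A] v i
        rw [TensorProduct.smul_tmul', Algebra.smul_def, mul_one]
        rfl
      rw [h4, hS, map_zero]
    have hmem : ∑ i ∈ s, d i • v i ∈
        maximalIdeal A • (⊤ : Submodule A (LocalizedModule q.primeCompl M)) := by
      rw [← LinearMap.ker_tensorProductMk]
      exact hS'
    intro i hi
    rw [← hβA, ← hd i]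
    exact (residue_eq_zero_iff _).mpr (hv s d hmem i hi)
  intro i hi
  rw [← residue_eq_zero_iff]
  exact (Module.forall_dual_apply_eq_zero_iff (ResidueField A) (residue A' (c i))).mp
    (fun β => key β i hi)

end Heart

end Groth.Agent.H56.FamFlat
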