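import Mathlib
import Groth.Agent.H56.FamFlat.Core
import Groth.Agent.H9.UnivFlatLocal

/-!
# Flatness along a jointly injective family of local homomorphisms (helper56)

* `algebraMap_eq_zero_of_relation`: (per member of the family) relations between a family of
  elements of `M_q` independent modulo `𝔪` die in `A'`.
* `flat_of_relations`: a module over a local ring with nilpotent maximal ideal, all of whose
  "minimal" relations die in a jointly injective family, is flat.
-/

set_option autoImplicit false
set_option linter.style.haveILetI false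

open TensorProduct IsLocalRing

namespace Groth.Agent.H56.FamFlat

universe u

section K

variable {A B A' B' : Type u} [CommRing A] [CommRing B] [CommRing A'] [CommRing B']
  [IsLocalRing A] [IsLocalRing A'] [Algebra A B] [Algebra A A'] [IsLocalHom (algebraMap A A')]
  [Algebra B B'] [Algebra A' B']
  {M M' : Type u} [AddCommGroup M] [Module B M] [Module A M] [IsScalarTower A B M]
  [AddCommGroup M'] [Module B' M'] [Module A' M'] [IsScalarTower A' B' M'] [Module B M']
  [IsScalarTower B B' M'] [Module A M'] [IsScalarTower A A' M'] [IsScalarTower A B M']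
  [IsNoetherianRing B] [Module.Finite B M]
  (f : M →ₗ[B] M') (hA : IsBaseChange A' (f.restrictScalars A)) (q : Ideal B) [q.IsPrime]

include hA in
/-- **the key lemma**: relations of a family independent modulo `𝔪` die in `A'`. -/
theorem algebraMap_eq_zero_of_relation
    (Hflat : ∀ (Q : Ideal B') [Q.IsPrime], Q.comap (algebraMap B B') = q →
      Q.comap (algebraMap A' B') = maximalIdeal A' →
      Module.Flat A' (LocalizedModule Q.primeCompl M'))
    {Λ : Type u} (v : Λ → LocalizedModule q.primeCompl M) (hv : MinIndep A v)
    (s : Finset Λ) (x : Λ → A) (hx : ∑ i ∈ s, x i • v i = 0) :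
    ∀ i ∈ s, algebraMap A A' (x i) = 0 := by
  -- flatness of `T⁻¹ M'`
  haveI hL : Module.Flat A' (LocalizedModule (Tsub A' B' q) M') := by
    apply flat_localizedModule_plusSubmonoid
    intro Q _ hJ hT
    apply Hflat Q
    · apply le_antisymm
      · intro b hb
        by_contra hbq
        exact hT _ (Submonoid.mem_map_of_mem _ (show b ∈ q.primeCompl from hbq)) hb
      · exact Ideal.map_le_iff_le_comap.mp (le_sup_left.trans hJ)
    · have h1 : maximalIdeal A' ≤ Q.comap (algebraMap A' B') :=
        Ideal.map_le_iff_le_comap.mp (le_sup_right.trans hJ)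
      exact ((maximalIdeal.isMaximal A').eq_of_le
        (Ideal.comap_ne_top _ (Ideal.IsPrime.ne_top inferInstance)) h1).symm
  have hmin := minIndep_gmap (B' := B') f hA q v hv
  have hli : LinearIndependent A' (fun i => gmap A' B' f q (v i)) :=
    Module.IsLocalRing.linearIndependent_of_flat _ (linearIndependent_mk_of_minIndep hmin)
  -- compatibility of the `A`-action
  have hsm : ∀ (a : A) (n : LocalizedModule q.primeCompl M),
      gmap A' B' f q (a • n) = algebraMap A A' a • gmap A' B' f q n := by
    intro a n
    rw [← algebraMap_smul B a n, map_smul]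
    generalize gmap A' B' f q n = l
    induction l using LocalizedModule.induction_on with
    | h y t =>
      rw [LocalizedModule.smul'_mk, LocalizedModule.smul'_mk, algebraMap_smul, algebraMap_smul]
  have hsum : ∑ i ∈ s, algebraMap A A' (x i) • gmap A' B' f q (v i) = 0 := by
    have : ∑ i ∈ s, algebraMap A A' (x i) • gmap A' B' f q (v i) =
        gmap A' B' f q (∑ i ∈ s, x i • v i) := by
      rw [map_sum]
      exact Finset.sum_congr rfl fun i _ => (hsm _ _).symm
    rw [this, hx, map_zero]
  exact linearIndependent_iff'.mp hli s (fun i => algebraMap A A' (x i)) hsum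

end K

section Fam

variable {A : Type u} [CommRing A] [IsLocalRing A]

/-- a ring homomorphism from a local ring with nilpotent maximal ideal to a local ring is
local -/
theorem isLocalHom_of_isNilpotent (hnil : IsNilpotent (maximalIdeal A)) {A' : Type*}
    [CommRing A'] [IsLocalRing A'] (u : A →+* A') : IsLocalHom u := by
  constructor
  intro a ha
  by_contra hna
  have hmem : a ∈ maximalIdeal A := (mem_maximalIdeal a).mpr hna
  obtain ⟨n, hn⟩ := hnil
  have h0 : a ^ n = 0 := by
    have : a ^ n ∈ maximalIdeal A ^ n := Ideal.pow_mem_pow hmem n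
    rw [hn] at this
    exact this
  have h1 : IsUnit (u a ^ n) := ha.pow n
  rw [← map_pow, h0, map_zero] at h1
  exact not_isUnit_zero h1

/-- **flatness from the vanishing of minimal relations in a jointly injective family** -/
theorem flat_of_relations (hnil : IsNilpotent (maximalIdeal A)) (N : Type u) [AddCommGroup N]
    [Module A N] {ι : Type*} (A' : ι → Type*) [∀ i, CommRing (A' i)] (u : ∀ i, A →+* A' i)
    (hker : ∀ a : A, (∀ i, u i a = 0) → a = 0)
    (H : ∀ (i : ι) {Λ : Type u} (v : Λ → N), MinIndep A v → ∀ (s : Finset Λ) (x : Λ → A),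
      ∑ j ∈ s, x j • v j = 0 → ∀ j ∈ s, u i (x j) = 0) :
    Module.Flat A N := by
  classical
  obtain ⟨Λ, π, hπ, hK⟩ :=
    Groth.Agent.H9.UnivFlat.exists_minimal_presentation (maximalIdeal A) hnil N
  let v : Λ → N := fun j => π (Finsupp.single j 1)
  have hπv : ∀ c : Λ →₀ A, π c = ∑ j ∈ c.support, c j • v j := by
    intro c
    conv_lhs => rw [← Finsupp.sum_single c]
    rw [Finsupp.sum, map_sum]
    refine Finset.sum_congr rfl fun j _ => ?_
    rw [← map_smul, Finsupp.smul_single, smul_eq_mul, mul_one]
  -- coordinates of elements of `𝔪 • ⊤`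
  have hcoord : ∀ y ∈ maximalIdeal A • (⊤ : Submodule A (Λ →₀ A)), ∀ j, y j ∈ maximalIdeal A := by
    intro y hy j
    have h1 : Finsupp.lapply (R := A) (M := A) j y ∈
        (maximalIdeal A • (⊤ : Submodule A (Λ →₀ A))).map (Finsupp.lapply (R := A) (M := A) j) :=
      Submodule.mem_map_of_mem hy
    rw [Submodule.map_smul''] at h1
    have h2 : maximalIdeal A • (Submodule.map (Finsupp.lapply (R := A) (M := A) j) ⊤) ≤
        maximalIdeal A := by
      rw [Submodule.smul_le]
      intro r hr n _
      exact Ideal.mul_mem_right _ _ hr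
    exact h2 h1
  have hv : MinIndep A v := by
    intro s c hc
    let c' : Λ →₀ A := ∑ j ∈ s, Finsupp.single j (c j)
    have hc'π : π c' = ∑ j ∈ s, c j • v j := by
      rw [map_sum]
      refine Finset.sum_congr rfl fun j _ => ?_
      rw [← map_smul, Finsupp.smul_single, smul_eq_mul, mul_one]
    have hc'j : ∀ j ∈ s, c' j = c j := by
      intro j hj
      change (∑ j' ∈ s, Finsupp.single j' (c j')) j = c j
      rw [Finsupp.finsetSum_apply, Finset.sum_eq_single j]
      · exact Finsupp.single_eq_same
      · intro j' _ hne
        exact Finsupp.single_eq_of_ne hne.symm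
      · intro hns
        exact absurd hj hns
    -- `π c' ∈ 𝔪 N = π (𝔪 ⊤)`
    have hmap : (maximalIdeal A • (⊤ : Submodule A (Λ →₀ A))).map π =
        maximalIdeal A • (⊤ : Submodule A N) := by
      rw [Submodule.map_smul'', Submodule.map_top, LinearMap.range_eq_top.mpr hπ]
    have h1 : π c' ∈ (maximalIdeal A • (⊤ : Submodule A (Λ →₀ A))).map π := by
      rw [hmap, hc'π]
      exact hc
    obtain ⟨y, hy, hyc⟩ := h1
    have h2 : c' - y ∈ maximalIdeal A • (⊤ : Submodule A (Λ →₀ A)) := by
      apply hK
      rw [LinearMap.mem_ker, map_sub, hyc, sub_self]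
    have h3 : c' ∈ maximalIdeal A • (⊤ : Submodule A (Λ →₀ A)) := by
      have := Submodule.add_mem _ h2 hy
      rwa [sub_add_cancel] at this
    intro j hj
    rw [← hc'j j hj]
    exact hcoord c' h3 j
  have hinj : Function.Injective π := by
    rw [injective_iff_map_eq_zero]
    intro c hc
    rw [hπv] at hc
    ext j
    rw [Finsupp.zero_apply]
    by_cases hj : j ∈ c.support
    · exact hker _ fun i => H i v hv c.support c hc j hj
    · exact Finsupp.notMem_support_iff.mp hj
  exact Module.Flat.of_linearEquiv (LinearEquiv.ofBijective π ⟨hinj, hπ⟩).symm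

end Fam

end Groth.Agent.H56.FamFlat
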