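import Mathlib
import Groth.Agent.H56.FamFlat.Main
import Groth.Agent.H2.FlatPow

/-!
# Flatness over a Noetherian local ring along a family of local homomorphisms defining the
topology (helper56)
-/

set_option autoImplicit false
set_option linter.style.haveILetI false

open TensorProduct IsLocalRing

namespace Groth.Agent.H56.FamFlat

universe u

section Adic

variable {O : Type u} [CommRing O] [IsLocalRing O] [IsNoetherianRing O]
  {C : Type u} [CommRing C] [IsNoetherianRing C] [Algebra O C]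
  (N : Type u) [AddCommGroup N] [Module O N] [Module C N] [IsScalarTower O C N]
  [Module.Finite C N]

set_option maxHeartbeats 1600000 in
/-- **flatness over a Noetherian local ring from relations modulo the members of a family of
ideals defining the adic topology** -/
theorem flat_of_relations_adic
    (hC : (maximalIdeal O).map (algebraMap O C) ≤ Ideal.jacobson ⊥)
    {ι : Type*} (A : ι → Type*) [∀ i, CommRing (A i)] [∀ i, IsLocalRing (A i)]
    (φ : ∀ i, O →+* A i) [∀ i, IsLocalHom (φ i)]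
    (htop : ∀ n : ℕ, ∃ s : Finset (ι × ℕ),
      ⨅ p ∈ s, Ideal.comap (φ p.1) (maximalIdeal (A p.1) ^ p.2) ≤ maximalIdeal O ^ n)
    (H : ∀ (i : ι) (k : ℕ) {Λ : Type u} (v : Λ → N), MinIndep O v →
      ∀ (s : Finset Λ) (x : Λ → O),
      ∑ j ∈ s, x j • v j ∈
        (Ideal.comap (φ i) (maximalIdeal (A i) ^ k)) • (⊤ : Submodule O N) →
      ∀ j ∈ s, φ i (x j) ∈ maximalIdeal (A i) ^ k) :
    Module.Flat O N := by
  classical
  refine Groth.Agent.H2.flat_of_flat_quotient_pow (S := C) (maximalIdeal O) hC ?_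
  intro n hn
  obtain ⟨s, hs⟩ := htop n
  set 𝔞 : Ideal O := ⨅ p ∈ s, Ideal.comap (φ p.1) (maximalIdeal (A p.1) ^ p.2) with h𝔞
  have h𝔞m : 𝔞 ≤ maximalIdeal O :=
    hs.trans (Ideal.pow_le_self (Nat.pos_iff_ne_zero.mp hn))
  have h𝔞top : 𝔞 ≠ ⊤ := fun h => (Ideal.IsPrime.ne_top (maximalIdeal.isMaximal O).isPrime)
    (top_le_iff.mp (h ▸ h𝔞m))
  haveI : Nontrivial (O ⧸ 𝔞) := Ideal.Quotient.nontrivial_iff.mpr h𝔞top
  haveI : IsLocalRing (O ⧸ 𝔞) :=
    IsLocalRing.of_surjective' (Ideal.Quotient.mk 𝔞) Ideal.Quotient.mk_surjective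
  haveI : IsLocalHom (Ideal.Quotient.mk 𝔞) :=
    IsLocalHom.of_surjective (Ideal.Quotient.mk 𝔞) Ideal.Quotient.mk_surjective
  have hmk_mem : ∀ a : O, Ideal.Quotient.mk 𝔞 a ∈ maximalIdeal (O ⧸ 𝔞) ↔ a ∈ maximalIdeal O := by
    intro a
    rw [mem_maximalIdeal, mem_maximalIdeal, mem_nonunits_iff, mem_nonunits_iff]
    exact not_congr ⟨fun h => isUnit_of_map_unit (Ideal.Quotient.mk 𝔞) a h, fun h => h.map _⟩
  -- the maximal ideal of `O ⧸ 𝔞` is nilpotent
  have hpowle : ∀ (i : ι) (k : ℕ), maximalIdeal O ^ k ≤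
      Ideal.comap (φ i) (maximalIdeal (A i) ^ k) := by
    intro i k
    rw [← Ideal.map_le_iff_le_comap, Ideal.map_pow]
    exact Ideal.pow_right_mono (map_maximalIdeal_le (φ i)) k
  have hnil : IsNilpotent (maximalIdeal (O ⧸ 𝔞)) := by
    refine ⟨s.sup (fun p => p.2), ?_⟩
    have h1 : maximalIdeal O ^ (s.sup (fun p => p.2)) ≤ 𝔞 := by
      rw [h𝔞]
      refine le_iInf₂ fun p hp => ?_
      exact (Ideal.pow_le_pow_right (Finset.le_sup (f := fun p : ι × ℕ => p.2) hp)).trans
        (hpowle p.1 p.2)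
    have h2 : maximalIdeal (O ⧸ 𝔞) = (maximalIdeal O).map (Ideal.Quotient.mk 𝔞) := by
      ext xbar
      obtain ⟨x, rfl⟩ := Ideal.Quotient.mk_surjective xbar
      rw [hmk_mem]
      constructor
      · intro hx
        exact Ideal.mem_map_of_mem _ hx
      · intro hx
        rw [Ideal.mem_map_iff_of_surjective _ Ideal.Quotient.mk_surjective] at hx
        obtain ⟨y, hy, hyx⟩ := hx
        have : x - y ∈ 𝔞 := by
          rw [← Ideal.Quotient.eq]
          exact hyx.symm
        have := Ideal.add_mem _ (h𝔞m this) hy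
        rwa [sub_add_cancel] at this
    rw [h2, ← Ideal.map_pow, Ideal.zero_eq_bot, Ideal.map_eq_bot_iff_le_ker, Ideal.mk_ker]
    exact h1
  -- flatness of `(O ⧸ 𝔞) ⊗ N`
  have hflat : Module.Flat (O ⧸ 𝔞) ((O ⧸ 𝔞) ⊗[O] N) := by
    refine flat_of_relations hnil ((O ⧸ 𝔞) ⊗[O] N)
      (fun p : {p : ι × ℕ // p ∈ s} => A p.1.1 ⧸ maximalIdeal (A p.1.1) ^ p.1.2)
      (fun p => Ideal.Quotient.lift 𝔞 ((Ideal.Quotient.mk _).comp (φ p.1.1)) (fun a ha => by
        rw [RingHom.comp_apply, Ideal.Quotient.eq_zero_iff_mem]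
        have : 𝔞 ≤ Ideal.comap (φ p.1.1) (maximalIdeal (A p.1.1) ^ p.1.2) :=
          iInf₂_le p.1 p.2
        exact this ha)) ?_ ?_
    · intro abar ha
      obtain ⟨a, rfl⟩ := Ideal.Quotient.mk_surjective abar
      rw [Ideal.Quotient.eq_zero_iff_mem, h𝔞, Ideal.mem_iInf]
      intro p
      rw [Ideal.mem_iInf]
      intro hp
      have := ha ⟨p, hp⟩
      rw [Ideal.Quotient.lift_mk, RingHom.comp_apply, Ideal.Quotient.eq_zero_iff_mem] at this
      exact this
    · intro p Λ vbar hvbar s' xbar hx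
      have hsurj : Function.Surjective (TensorProduct.mk O (O ⧸ 𝔞) N 1) :=
        TensorProduct.mk_surjective O N (O ⧸ 𝔞) Ideal.Quotient.mk_surjective
      choose v hv using fun j => hsurj (vbar j)
      choose x hxx using fun j => Ideal.Quotient.mk_surjective (xbar j)
      have hsum : ∀ (s'' : Finset Λ) (c : Λ → O),
          ∑ j ∈ s'', Ideal.Quotient.mk 𝔞 (c j) • vbar j =
            TensorProduct.mk O (O ⧸ 𝔞) N 1 (∑ j ∈ s'', c j • v j) := by
        intro s'' c
        rw [map_sum]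
        refine Finset.sum_congr rfl fun j _ => ?_
        rw [map_smul, hv j, ← Ideal.Quotient.algebraMap_eq, algebraMap_smul]
      -- independence over `O`
      have hvO : MinIndep O v := by
        intro s'' c hc j hj
        have h1 : ∑ j ∈ s'', Ideal.Quotient.mk 𝔞 (c j) • vbar j ∈
            maximalIdeal (O ⧸ 𝔞) • (⊤ : Submodule (O ⧸ 𝔞) ((O ⧸ 𝔞) ⊗[O] N)) := by
          rw [hsum]
          refine Submodule.smul_induction_on hc ?_ ?_
          · intro m hm y _
            rw [map_smul, ← algebraMap_smul (O ⧸ 𝔞) m, Ideal.Quotient.algebraMap_eq]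
            exact Submodule.smul_mem_smul ((hmk_mem m).mpr hm) Submodule.mem_top
          · intro y z hy hz
            rw [map_add]
            exact Submodule.add_mem _ hy hz
        exact (hmk_mem _).mp (hvbar s'' (fun j => Ideal.Quotient.mk 𝔞 (c j)) h1 j hj)
      -- the relation
      have hrel : ∑ j ∈ s', x j • v j ∈
          (Ideal.comap (φ p.1.1) (maximalIdeal (A p.1.1) ^ p.1.2)) •
            (⊤ : Submodule O N) := by
        have h1 : TensorProduct.mk O (O ⧸ 𝔞) N 1 (∑ j ∈ s', x j • v j) = 0 := by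
          rw [← hsum]
          simp only [hxx]
          exact hx
        have h2 : ∑ j ∈ s', x j • v j ∈ 𝔞 • (⊤ : Submodule O N) := by
          rw [← LinearMap.ker_tensorProductMk]
          exact h1
        have h3 : 𝔞 ≤ Ideal.comap (φ p.1.1) (maximalIdeal (A p.1.1) ^ p.1.2) :=
          iInf₂_le p.1 p.2
        exact Submodule.smul_mono_left h3 h2
      intro j hj
      have := H p.1.1 p.1.2 v hvO s' x hrel j hj
      rw [← hxx j, Ideal.Quotient.lift_mk, RingHom.comp_apply, Ideal.Quotient.eq_zero_iff_mem]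
      exact this
  -- base change to `O ⧸ 𝔪^n`
  letI : Algebra (O ⧸ 𝔞) (O ⧸ maximalIdeal O ^ n) := (Ideal.Quotient.factor hs).toAlgebra
  haveI : IsScalarTower O (O ⧸ 𝔞) (O ⧸ maximalIdeal O ^ n) :=
    IsScalarTower.of_algebraMap_eq (fun x => rfl)
  exact Module.Flat.of_linearEquiv (TensorProduct.AlgebraTensorModule.cancelBaseChange O (O ⧸ 𝔞)
    (O ⧸ maximalIdeal O ^ n) (O ⧸ maximalIdeal O ^ n) N).symm

end Adic

end Groth.Agent.H56.FamFlat
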