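import Mathlib

/-!
# Points of affine opens and prime ideals (helper56)
-/

set_option autoImplicit false

open CategoryTheory Limits AlgebraicGeometry TopologicalSpace Opposite

namespace Groth.Agent.H56.FamFlat

universe u

variable {X Y : Scheme.{u}}

theorem fromSpec_mem {U : X.Opens} (hU : IsAffineOpen U) (Q : Spec Γ(X, U)) :
    hU.fromSpec Q ∈ U := by
  have : hU.fromSpec Q ∈ Set.range hU.fromSpec := ⟨Q, rfl⟩
  rw [hU.range_fromSpec] at this
  exact this

theorem primeIdealOf_fromSpec {U : X.Opens} (hU : IsAffineOpen U) (Q : Spec Γ(X, U)) :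
    hU.primeIdealOf ⟨hU.fromSpec Q, fromSpec_mem hU Q⟩ = Q := by
  apply hU.fromSpec.isOpenEmbedding.injective
  exact hU.fromSpec_primeIdealOf ⟨hU.fromSpec Q, fromSpec_mem hU Q⟩

/-- the image of `fromSpec Q` under a morphism, on affine charts -/
theorem map_fromSpec (f : X ⟶ Y) {U : X.Opens} {V : Y.Opens} (hU : IsAffineOpen U)
    (hV : IsAffineOpen V) (e : U ≤ f ⁻¹ᵁ V) (Q : Spec Γ(X, U)) :
    f (hU.fromSpec Q) = hV.fromSpec (Spec.map (f.appLE V U e) Q) := by
  rw [← Scheme.Hom.comp_apply, ← IsAffineOpen.SpecMap_appLE_fromSpec f hV hU e,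
    Scheme.Hom.comp_apply]

/-- `fromSpec` of the top open of `Spec R` -/
theorem fromSpec_top_Spec (R : CommRingCat.{u}) (P : Spec Γ(Spec R, ⊤)) :
    (isAffineOpen_top (Spec R)).fromSpec P = Spec.map (Scheme.ΓSpecIso R).inv P := by
  rw [IsAffineOpen.fromSpec_top, Scheme.isoSpec_Spec_inv]

end Groth.Agent.H56.FamFlat
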