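import Mathlib
import Groth.Agent.H56.Flattening.Plumbing
import Groth.Agent.H56.FamFlat.Main
import Groth.Agent.H56.FamFlat.Points
import Groth.Agent.H70.FlatLocusGeo.Main
import Groth.Agent.H70.FlatAtBC.Basic

/-!
# From pointwise flatness of a base change to relations in `A'` (helper56)
-/

set_option autoImplicit false
set_option linter.style.haveILetI false

open CategoryTheory Limits AlgebraicGeometry TopologicalSpace Opposite TensorProduct IsLocalRing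

namespace Groth.Agent.H56.FamFlat

universe u

open Groth.Agent.H56.Flattening

variable {A A' : Type u} [CommRing A] [CommRing A'] [IsLocalRing A] [IsLocalRing A']
  [Algebra A A'] [IsLocalHom (algebraMap A A')]
  {X : Scheme.{u}} (f : X ⟶ Spec (CommRingCat.of A))

set_option maxHeartbeats 3200000 in
/-- **relations die in `A'`**, geometric form. -/
theorem relation_of_isFlatOverAt_pullback (F : X.Modules) [F.IsQuasicoherent] {U : X.Opens}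
    (hU : IsAffineOpen U) {x : X} (hxU : x ∈ U)
    [Algebra A Γ(X, U)] (hAB : algebraMap A Γ(X, U) = baseHom f U)
    [Module A Γ(F, U)] [IsScalarTower A Γ(X, U) Γ(F, U)]
    [IsNoetherianRing Γ(X, U)] [Module.Finite Γ(X, U) Γ(F, U)]
    (hflat : ∀ x' : ↥(pullback f (Spec.map (CommRingCat.ofHom (algebraMap A A')))),
      pullback.fst f (Spec.map (CommRingCat.ofHom (algebraMap A A'))) x' = x →
      pullback.snd f (Spec.map (CommRingCat.ofHom (algebraMap A A'))) x' =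
        IsLocalRing.closedPoint A' →
      FlatMod.IsFlatOverAt (pullback.snd f (Spec.map (CommRingCat.ofHom (algebraMap A A'))))
        ((Scheme.Modules.pullback
          (pullback.fst f (Spec.map (CommRingCat.ofHom (algebraMap A A'))))).obj F) x')
    {Λ : Type u}
    (v : Λ → LocalizedModule (hU.primeIdealOf ⟨x, hxU⟩).asIdeal.primeCompl Γ(F, U))
    (hv : MinIndep A v) (s : Finset Λ) (c : Λ → A) (hc : ∑ j ∈ s, c j • v j = 0) :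
    ∀ j ∈ s, algebraMap A A' (c j) = 0 := by
  let g : Spec (CommRingCat.of A') ⟶ Spec (CommRingCat.of A) :=
    Spec.map (CommRingCat.ofHom (algebraMap A A'))
  let g' := pullback.fst f g
  let f' := pullback.snd f g
  have hc' : IsPullback g' f' f g := IsPullback.of_hasPullback f g
  obtain ⟨hU', hpo⟩ := affine_chart_of hc' (isAffineOpen_top (Spec (CommRingCat.of A)))
    (isAffineOpen_top (Spec (CommRingCat.of A'))) hU (W' := ⊤) le_top le_top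
  have e' : g' ⁻¹ᵁ U ⊓ f' ⁻¹ᵁ ⊤ ≤ g' ⁻¹ᵁ U := inf_le_left
  have e'' : g' ⁻¹ᵁ U ⊓ f' ⁻¹ᵁ ⊤ ≤ f' ⁻¹ᵁ ⊤ := inf_le_right
  -- rings
  letI algA'R' : Algebra A' Γ(Spec (CommRingCat.of A'), ⊤) :=
    (Scheme.ΓSpecIso (CommRingCat.of A')).inv.hom.toAlgebra
  letI algA'B' : Algebra A' Γ(pullback f g, g' ⁻¹ᵁ U ⊓ f' ⁻¹ᵁ ⊤) :=
    ((Scheme.ΓSpecIso (CommRingCat.of A')).inv ≫ f'.appLE ⊤ (g' ⁻¹ᵁ U ⊓ f' ⁻¹ᵁ ⊤) e'').hom.toAlgebra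
  letI algBB' : Algebra Γ(X, U) Γ(pullback f g, g' ⁻¹ᵁ U ⊓ f' ⁻¹ᵁ ⊤) :=
    (g'.appLE U _ e').hom.toAlgebra
  letI algAB' : Algebra A Γ(pullback f g, g' ⁻¹ᵁ U ⊓ f' ⁻¹ᵁ ⊤) :=
    ((algebraMap Γ(X, U) Γ(pullback f g, g' ⁻¹ᵁ U ⊓ f' ⁻¹ᵁ ⊤)).comp
      (algebraMap A Γ(X, U))).toAlgebra
  haveI : IsScalarTower A Γ(X, U) Γ(pullback f g, g' ⁻¹ᵁ U ⊓ f' ⁻¹ᵁ ⊤) :=
    IsScalarTower.of_algebraMap_eq (fun _ => rfl)
  -- the pushout square over `A`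
  have hpo2 : CategoryTheory.IsPushout (CommRingCat.ofHom (algebraMap A Γ(X, U)))
      (CommRingCat.ofHom (algebraMap A A'))
      (CommRingCat.ofHom (algebraMap Γ(X, U) Γ(pullback f g, g' ⁻¹ᵁ U ⊓ f' ⁻¹ᵁ ⊤)))
      (CommRingCat.ofHom (algebraMap A' Γ(pullback f g, g' ⁻¹ᵁ U ⊓ f' ⁻¹ᵁ ⊤))) := by
    refine hpo.of_iso (Scheme.ΓSpecIso (CommRingCat.of A)) (Iso.refl _)
      (Scheme.ΓSpecIso (CommRingCat.of A')) (Iso.refl _) ?_ ?_ ?_ ?_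
    · rw [hAB]
      change _ = (Scheme.ΓSpecIso (CommRingCat.of A)).hom ≫
        ((Scheme.ΓSpecIso (CommRingCat.of A)).inv ≫ f.appLE ⊤ U le_top)
      rw [Iso.hom_inv_id_assoc, Iso.refl_hom, Category.comp_id]
    · rw [Groth.Agent.H71.QCoh.appLE_top_top_eq_appTop]
      exact Scheme.ΓSpecIso_naturality (CommRingCat.ofHom (algebraMap A A'))
    · rw [Iso.refl_hom, Iso.refl_hom, Category.comp_id, Category.id_comp]
      rfl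
    · change _ = (Scheme.ΓSpecIso (CommRingCat.of A')).hom ≫
        ((Scheme.ΓSpecIso (CommRingCat.of A')).inv ≫ f'.appLE ⊤ (g' ⁻¹ᵁ U ⊓ f' ⁻¹ᵁ ⊤) e'')
      rw [Iso.hom_inv_id_assoc, Iso.refl_hom, Category.comp_id]
  haveI : IsScalarTower A A' Γ(pullback f g, g' ⁻¹ᵁ U ⊓ f' ⁻¹ᵁ ⊤) :=
    IsScalarTower.of_algebraMap_eq (fun a => by
      have := congrArg (fun k => k.hom a) hpo2.w
      exact this)
  haveI hpo' : Algebra.IsPushout A Γ(X, U) A' Γ(pullback f g, g' ⁻¹ᵁ U ⊓ f' ⁻¹ᵁ ⊤) :=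
    CommRingCat.isPushout_iff_isPushout.mp hpo2
  -- modules
  letI modR'M' : Module Γ(Spec (CommRingCat.of A'), ⊤)
      Γ((Scheme.Modules.pullback g').obj F, g' ⁻¹ᵁ U ⊓ f' ⁻¹ᵁ ⊤) :=
    Module.compHom _ (f'.appLE ⊤ (g' ⁻¹ᵁ U ⊓ f' ⁻¹ᵁ ⊤) e'').hom
  letI algR'B' : Algebra Γ(Spec (CommRingCat.of A'), ⊤) Γ(pullback f g, g' ⁻¹ᵁ U ⊓ f' ⁻¹ᵁ ⊤) :=
    (f'.appLE ⊤ (g' ⁻¹ᵁ U ⊓ f' ⁻¹ᵁ ⊤) e'').hom.toAlgebra
  haveI : IsScalarTower A' Γ(Spec (CommRingCat.of A'), ⊤)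
      Γ(pullback f g, g' ⁻¹ᵁ U ⊓ f' ⁻¹ᵁ ⊤) := IsScalarTower.of_algebraMap_eq (fun _ => rfl)
  haveI : IsScalarTower Γ(Spec (CommRingCat.of A'), ⊤) Γ(pullback f g, g' ⁻¹ᵁ U ⊓ f' ⁻¹ᵁ ⊤)
      Γ((Scheme.Modules.pullback g').obj F, g' ⁻¹ᵁ U ⊓ f' ⁻¹ᵁ ⊤) :=
    IsScalarTower.of_algebraMap_smul (fun r m => rfl)
  letI modA'M' : Module A' Γ((Scheme.Modules.pullback g').obj F, g' ⁻¹ᵁ U ⊓ f' ⁻¹ᵁ ⊤) :=
    Module.compHom _ (algebraMap A' Γ(pullback f g, g' ⁻¹ᵁ U ⊓ f' ⁻¹ᵁ ⊤))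
  haveI : IsScalarTower A' Γ(pullback f g, g' ⁻¹ᵁ U ⊓ f' ⁻¹ᵁ ⊤)
      Γ((Scheme.Modules.pullback g').obj F, g' ⁻¹ᵁ U ⊓ f' ⁻¹ᵁ ⊤) :=
    IsScalarTower.of_algebraMap_smul (fun r m => rfl)
  haveI : IsScalarTower A' Γ(Spec (CommRingCat.of A'), ⊤)
      Γ((Scheme.Modules.pullback g').obj F, g' ⁻¹ᵁ U ⊓ f' ⁻¹ᵁ ⊤) :=
    IsScalarTower.of_algebraMap_smul (fun r m => rfl)
  letI modBM' : Module Γ(X, U) Γ((Scheme.Modules.pullback g').obj F, g' ⁻¹ᵁ U ⊓ f' ⁻¹ᵁ ⊤) :=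
    Module.compHom _ (algebraMap Γ(X, U) Γ(pullback f g, g' ⁻¹ᵁ U ⊓ f' ⁻¹ᵁ ⊤))
  haveI : IsScalarTower Γ(X, U) Γ(pullback f g, g' ⁻¹ᵁ U ⊓ f' ⁻¹ᵁ ⊤)
      Γ((Scheme.Modules.pullback g').obj F, g' ⁻¹ᵁ U ⊓ f' ⁻¹ᵁ ⊤) :=
    IsScalarTower.of_algebraMap_smul (fun r m => rfl)
  letI modAM' : Module A Γ((Scheme.Modules.pullback g').obj F, g' ⁻¹ᵁ U ⊓ f' ⁻¹ᵁ ⊤) :=
    Module.compHom _ (algebraMap A A')
  haveI : IsScalarTower A A' Γ((Scheme.Modules.pullback g').obj F, g' ⁻¹ᵁ U ⊓ f' ⁻¹ᵁ ⊤) :=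
    IsScalarTower.of_algebraMap_smul (fun r m => rfl)
  haveI : IsScalarTower A Γ(X, U) Γ((Scheme.Modules.pullback g').obj F, g' ⁻¹ᵁ U ⊓ f' ⁻¹ᵁ ⊤) :=
    IsScalarTower.of_algebraMap_smul (fun a m => by
      change algebraMap Γ(X, U) Γ(pullback f g, g' ⁻¹ᵁ U ⊓ f' ⁻¹ᵁ ⊤) (algebraMap A Γ(X, U) a) • m =
        algebraMap A' Γ(pullback f g, g' ⁻¹ᵁ U ⊓ f' ⁻¹ᵁ ⊤) (algebraMap A A' a) • m
      rw [← IsScalarTower.algebraMap_apply A Γ(X, U), ← IsScalarTower.algebraMap_apply A A'])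
  -- the base change map
  let eq := Groth.Agent.H44.pullbackSectionsEquiv g' F hU' hU e'
  let f₀ : Γ(F, U) →ₗ[Γ(X, U)] Γ((Scheme.Modules.pullback g').obj F, g' ⁻¹ᵁ U ⊓ f' ⁻¹ᵁ ⊤) :=
    (eq.symm.toLinearMap.restrictScalars Γ(X, U)) ∘ₗ
      (TensorProduct.mk Γ(X, U) Γ(pullback f g, g' ⁻¹ᵁ U ⊓ f' ⁻¹ᵁ ⊤) Γ(F, U) 1)
  have hf₀ : IsBaseChange Γ(pullback f g, g' ⁻¹ᵁ U ⊓ f' ⁻¹ᵁ ⊤) f₀ :=
    IsBaseChange.of_equiv eq.symm (fun m => by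
      simp only [f₀, LinearMap.coe_comp, Function.comp_apply, LinearMap.coe_restrictScalars,
        LinearEquiv.coe_coe, TensorProduct.mk_apply])
  have hA : IsBaseChange A' (f₀.restrictScalars A) :=
    Groth.Agent.H70.FlatAtBC.isBaseChange_restrictScalars (R := A) f₀ hf₀
  have hbij : Function.Bijective (algebraMap A' Γ(Spec (CommRingCat.of A'), ⊤)) :=
    ConcreteCategory.bijective_of_isIso (Scheme.ΓSpecIso (CommRingCat.of A')).inv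
  -- flatness at the primes
  refine algebraMap_eq_zero_of_relation (A' := A')
    (B' := Γ(pullback f g, g' ⁻¹ᵁ U ⊓ f' ⁻¹ᵁ ⊤)) f₀ hA
    (hU.primeIdealOf ⟨x, hxU⟩).asIdeal ?_ v hv s c hc
  intro Q hQ hQ1 hQ2
  let Qp : Spec Γ(pullback f g, g' ⁻¹ᵁ U ⊓ f' ⁻¹ᵁ ⊤) := ⟨Q, hQ⟩
  have hx'U' : hU'.fromSpec Qp ∈ g' ⁻¹ᵁ U ⊓ f' ⁻¹ᵁ ⊤ := fromSpec_mem hU' Qp
  have hfst : g' (hU'.fromSpec Qp) = x := by
    rw [map_fromSpec g' hU' hU e' Qp]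
    have h1 : Spec.map (g'.appLE U (g' ⁻¹ᵁ U ⊓ f' ⁻¹ᵁ ⊤) e') Qp = hU.primeIdealOf ⟨x, hxU⟩ :=
      PrimeSpectrum.ext hQ1
    rw [h1]
    exact hU.fromSpec_primeIdealOf ⟨x, hxU⟩
  have hsnd : f' (hU'.fromSpec Qp) = IsLocalRing.closedPoint A' := by
    rw [map_fromSpec f' hU' (isAffineOpen_top _) e'' Qp, fromSpec_top_Spec]
    exact PrimeSpectrum.ext hQ2
  have h1 := hflat (hU'.fromSpec Qp) hfst hsnd
  rw [Groth.Agent.H70.FlatLocusGeo.isFlatOverAt_iff_flat_localizedModule f' _ hU'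
    (isAffineOpen_top _) e'' hx'U', primeIdealOf_fromSpec hU' Qp] at h1
  exact (Groth.Agent.H71.QCoh.flat_iff_of_bijective_algebraMap hbij).mp h1

end Groth.Agent.H56.FamFlat
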