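import Mathlib
import Groth.Agent.H56.FamFlat.Main

/-!
# Relations modulo an ideal of the target (helper56)

* `minIndep_quotient`: independence modulo the maximal ideal passes to `(R ⧸ I) ⊗ L`.
* `algebraMap_mem_of_relation`: in the setting of `algebraMap_eq_zero_of_relation`, a relation
  modulo the pull back of an ideal `I'` of `A'` has coefficients in `I'`.
-/

set_option autoImplicit false
set_option linter.style.haveILetI false

open TensorProduct IsLocalRing

namespace Groth.Agent.H56.FamFlat

universe u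

section Q

variable {R : Type*} [CommRing R] [IsLocalRing R] {L : Type*} [AddCommGroup L] [Module R L]
  {Λ : Type*}

theorem minIndep_quotient (I : Ideal R) [IsLocalRing (R ⧸ I)] {w : Λ → L}
    (h : MinIndep R w) : MinIndep (R ⧸ I) (fun i => (1 : R ⧸ I) ⊗ₜ[R] w i) := by
  classical
  have hI : I ≠ ⊤ := by
    intro htop
    have : Subsingleton (R ⧸ I) := Ideal.Quotient.subsingleton_iff.mpr htop
    exact not_subsingleton (R ⧸ I) this
  have hIm : I ≤ maximalIdeal R := le_maximalIdeal hI
  haveI : IsLocalHom (Ideal.Quotient.mk I) :=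
    IsLocalHom.of_surjective (Ideal.Quotient.mk I) Ideal.Quotient.mk_surjective
  have hle : I • (⊤ : Submodule R L) ≤ maximalIdeal R • (⊤ : Submodule R L) :=
    Submodule.smul_mono_left hIm
  let ρ : (R ⧸ I) ⊗[R] L →ₗ[R] L ⧸ (maximalIdeal R • (⊤ : Submodule R L)) :=
    (Submodule.mapQ _ _ LinearMap.id hle) ∘ₗ (TensorProduct.quotTensorEquivQuotSMul L I).toLinearMap
  have hρ1 : ∀ l : L, ρ ((1 : R ⧸ I) ⊗ₜ[R] l) = Submodule.Quotient.mk l := by
    intro l
    change Submodule.mapQ _ _ LinearMap.id hle (TensorProduct.quotTensorEquivQuotSMul L I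
      ((1 : R ⧸ I) ⊗ₜ[R] l)) = _
    rw [TensorProduct.quotTensorEquivQuotSMul_mk_one_tmul]
    rfl
  have hkill : ∀ (m : R), m ∈ maximalIdeal R →
      ∀ y : L ⧸ (maximalIdeal R • (⊤ : Submodule R L)), m • y = 0 := by
    intro m hm y
    obtain ⟨l, rfl⟩ := Submodule.Quotient.mk_surjective _ y
    rw [← Submodule.Quotient.mk_smul, Submodule.Quotient.mk_eq_zero]
    exact Submodule.smul_mem_smul hm Submodule.mem_top
  have hρ0 : ∀ z ∈ maximalIdeal (R ⧸ I) • (⊤ : Submodule (R ⧸ I) ((R ⧸ I) ⊗[R] L)), ρ z = 0 := by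
    intro z hz
    refine Submodule.smul_induction_on hz ?_ ?_
    · intro mbar hmbar y _
      obtain ⟨m, rfl⟩ := Ideal.Quotient.mk_surjective mbar
      have hm : m ∈ maximalIdeal R := by
        rw [mem_maximalIdeal, mem_nonunits_iff] at hmbar ⊢
        exact fun hu => hmbar (hu.map _)
      have h1 : Ideal.Quotient.mk I m • y = m • y := by
        rw [← Ideal.Quotient.algebraMap_eq, algebraMap_smul]
      rw [h1, map_smul]
      exact hkill m hm _
    · intro x y hx hy
      rw [map_add, hx, hy, add_zero]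
  intro s cbar hc i hi
  choose c hcc using fun i => Ideal.Quotient.mk_surjective (cbar i)
  have h2 : ρ (∑ i ∈ s, cbar i • ((1 : R ⧸ I) ⊗ₜ[R] w i)) =
      Submodule.Quotient.mk (∑ i ∈ s, c i • w i) := by
    rw [map_sum]
    have : (Submodule.Quotient.mk (∑ i ∈ s, c i • w i) :
        L ⧸ (maximalIdeal R • (⊤ : Submodule R L))) =
        ∑ i ∈ s, Submodule.Quotient.mk (c i • w i) := by
      rw [← Submodule.mkQ_apply, map_sum]
      rfl
    rw [this]
    refine Finset.sum_congr rfl fun i _ => ?_
    rw [← hcc i, ← Ideal.Quotient.algebraMap_eq, algebraMap_smul, map_smul, hρ1,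
      Submodule.Quotient.mk_smul]
  rw [hρ0 _ hc] at h2
  have h3 : ∑ i ∈ s, c i • w i ∈ maximalIdeal R • (⊤ : Submodule R L) :=
    (Submodule.Quotient.mk_eq_zero _).mp h2.symm
  have h4 := h s c h3 i hi
  rw [← hcc i, mem_maximalIdeal, mem_nonunits_iff] at *
  intro hu
  exact h4 (isUnit_of_map_unit (Ideal.Quotient.mk I) _ hu)

end Q


section K'

variable {A B A' B' : Type u} [CommRing A] [CommRing B] [CommRing A'] [CommRing B']
  [IsLocalRing A] [IsLocalRing A'] [Algebra A B] [Algebra A A'] [IsLocalHom (algebraMap A A')]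
  [Algebra B B'] [Algebra A' B']
  {M M' : Type u} [AddCommGroup M] [Module B M] [Module A M] [IsScalarTower A B M]
  [AddCommGroup M'] [Module B' M'] [Module A' M'] [IsScalarTower A' B' M'] [Module B M']
  [IsScalarTower B B' M'] [Module A M'] [IsScalarTower A A' M'] [IsScalarTower A B M']
  [IsNoetherianRing B] [Module.Finite B M]
  (f : M →ₗ[B] M') (hA : IsBaseChange A' (f.restrictScalars A)) (q : Ideal B) [q.IsPrime]

include hA in
/-- **the key lemma, modulo an ideal of `A'`**. -/
theorem algebraMap_mem_of_relation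
    (Hflat : ∀ (Q : Ideal B') [Q.IsPrime], Q.comap (algebraMap B B') = q →
      Q.comap (algebraMap A' B') = maximalIdeal A' →
      Module.Flat A' (LocalizedModule Q.primeCompl M'))
    (I' : Ideal A') (hI' : I' ≠ ⊤)
    {Λ : Type u} (v : Λ → LocalizedModule q.primeCompl M) (hv : MinIndep A v)
    (s : Finset Λ) (x : Λ → A)
    (hx : ∑ i ∈ s, x i • v i ∈
      (I'.comap (algebraMap A A')) • (⊤ : Submodule A (LocalizedModule q.primeCompl M))) :
    ∀ i ∈ s, algebraMap A A' (x i) ∈ I' := by
  -- flatness of `T⁻¹ M'`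
  haveI hL : Module.Flat A' (LocalizedModule (Tsub A' B' q) M') := by
    apply flat_localizedModule_plusSubmonoid
    intro Q _ hJ hT
    apply Hflat Q
    · apply le_antisymm
      · intro b hb
        by_contra hbq
        exact hT _ (Submonoid.mem_map_of_mem _ (show b ∈ q.primeCompl from hbq)) hb
      · exact Ideal.map_le_iff_le_comap.mp (le_sup_left.trans hJ)
    · have h1 : maximalIdeal A' ≤ Q.comap (algebraMap A' B') :=
        Ideal.map_le_iff_le_comap.mp (le_sup_right.trans hJ)
      exact ((maximalIdeal.isMaximal A').eq_of_le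
        (Ideal.comap_ne_top _ (Ideal.IsPrime.ne_top inferInstance)) h1).symm
  have hmin := minIndep_gmap (B' := B') f hA q v hv
  haveI : Nontrivial (A' ⧸ I') := Ideal.Quotient.nontrivial_iff.mpr hI'
  haveI : IsLocalRing (A' ⧸ I') :=
    IsLocalRing.of_surjective' (Ideal.Quotient.mk I') Ideal.Quotient.mk_surjective
  have hmin' := minIndep_quotient I' hmin
  have hli : LinearIndependent (A' ⧸ I')
      (fun i => (1 : A' ⧸ I') ⊗ₜ[A'] gmap A' B' f q (v i)) :=
    Module.IsLocalRing.linearIndependent_of_flat _ (linearIndependent_mk_of_minIndep hmin')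
  -- compatibility of the `A`-action
  have hsm : ∀ (a : A) (n : LocalizedModule q.primeCompl M),
      gmap A' B' f q (a • n) = algebraMap A A' a • gmap A' B' f q n := by
    intro a n
    rw [← algebraMap_smul B a n, map_smul]
    generalize gmap A' B' f q n = l
    induction l using LocalizedModule.induction_on with
    | h y t =>
      rw [LocalizedModule.smul'_mk, LocalizedModule.smul'_mk, algebraMap_smul, algebraMap_smul]
  -- the image of the relation lies in `I' L`
  have hmem : gmap A' B' f q (∑ i ∈ s, x i • v i) ∈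
      I' • (⊤ : Submodule A' (LocalizedModule (Tsub A' B' q) M')) := by
    refine Submodule.smul_induction_on hx ?_ ?_
    · intro a ha n _
      rw [hsm]
      exact Submodule.smul_mem_smul ha Submodule.mem_top
    · intro y z hy hz
      rw [map_add]
      exact Submodule.add_mem _ hy hz
  have hsum : ∑ i ∈ s, (Ideal.Quotient.mk I' (algebraMap A A' (x i))) •
      ((1 : A' ⧸ I') ⊗ₜ[A'] gmap A' B' f q (v i)) = 0 := by
    have h1 : ∑ i ∈ s, (Ideal.Quotient.mk I' (algebraMap A A' (x i))) •
        ((1 : A' ⧸ I') ⊗ₜ[A'] gmap A' B' f q (v i)) =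
        TensorProduct.mk A' (A' ⧸ I') (LocalizedModule (Tsub A' B' q) M') 1
          (gmap A' B' f q (∑ i ∈ s, x i • v i)) := by
      rw [map_sum, map_sum]
      refine Finset.sum_congr rfl fun i _ => ?_
      rw [hsm, map_smul, ← Ideal.Quotient.algebraMap_eq, algebraMap_smul]
      rfl
    rw [h1]
    have h2 : gmap A' B' f q (∑ i ∈ s, x i • v i) ∈
        LinearMap.ker (TensorProduct.mk A' (A' ⧸ I') (LocalizedModule (Tsub A' B' q) M') 1) := by
      rw [LinearMap.ker_tensorProductMk]
      exact hmem
    exact h2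
  intro i hi
  have := linearIndependent_iff'.mp hli s
    (fun i => Ideal.Quotient.mk I' (algebraMap A A' (x i))) hsum i hi
  exact Ideal.Quotient.eq_zero_iff_mem.mp this

end K'

end Groth.Agent.H56.FamFlat
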