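import Mathlib
import Groth.Agent.H71.QCoh.FlatOverPullback
import Groth.Agent.H51.FlatValLift

/-!
# Flatness at a point can be checked after base change to the local scheme of the base
(helper56)
-/

set_option autoImplicit false
set_option linter.style.haveILetI false

open CategoryTheory Limits AlgebraicGeometry TopologicalSpace Opposite

namespace Groth.Agent.H56.FamFlat

universe u

theorem isFlatOverAt_of_isFlatOverAt_fromSpecStalk {X Y : Scheme.{u}} (f : X ⟶ Y)
    (F : X.Modules) [F.IsQuasicoherent] (x : X)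
    (xO : ↥(pullback f (Y.fromSpecStalk (f x))))
    (hx : pullback.fst f (Y.fromSpecStalk (f x)) xO = x)
    (h : FlatMod.IsFlatOverAt (pullback.snd f (Y.fromSpecStalk (f x)))
      ((Scheme.Modules.pullback (pullback.fst f (Y.fromSpecStalk (f x)))).obj F) xO) :
    FlatMod.IsFlatOverAt f F x := by
  haveI : Flat (Y.fromSpecStalk (f x)) := Groth.Agent.H51.flat_fromSpecStalk Y (f x)
  haveI : Flat (pullback.fst f (Y.fromSpecStalk (f x))) :=
    MorphismProperty.pullback_fst f (Y.fromSpecStalk (f x)) inferInstance
  have h1 := Groth.Agent.H71.QCoh.isFlatOverAt_comp (pullback.snd f (Y.fromSpecStalk (f x)))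
    (Y.fromSpecStalk (f x)) _ xO h (Flat.stalkMap (Y.fromSpecStalk (f x)) _)
  have h2 : FlatMod.IsFlatOverAt (pullback.fst f (Y.fromSpecStalk (f x)) ≫ f)
      ((Scheme.Modules.pullback (pullback.fst f (Y.fromSpecStalk (f x)))).obj F) xO := by
    rw [pullback.condition]
    exact h1
  have h3 := (Groth.Agent.H71.QCoh.isFlatOverAt_pullback_iff
    (pullback.fst f (Y.fromSpecStalk (f x))) f F xO (Flat.stalkMap _ _)).mpr h2
  rw [hx] at h3
  exact h3

end Groth.Agent.H56.FamFlat
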